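import Groth.Prelude
import Groth.Agent.ZCLib.Mul
import Mathlib.RingTheory.Norm.Basic

/-!
Base change of normic laws and of the universal normic pair.
-/

set_option autoImplicit false
set_option backward.isDefEq.respectTransparency false
set_option backward.isDefEq.respectTransparency.types false

universe u

open scoped TensorProduct

noncomputable section

namespace NormicBCLib

section bcAlong

variable {R Q : Type u} [CommRing R] [CommRing Q] [Algebra R Q]
  {X : Type u} [AddCommGroup X] [Module R X]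
  {Y : Type u} [AddCommGroup Y] [Module R Y] [Module Q Y] [IsScalarTower R Q Y]
  {P : Type u} [CommRing P] [Algebra R P] [Algebra Q P] [IsScalarTower R Q P]

theorem bcAlong_tmul (g : X →ₗ[R] Y) (p : P) (x : X) :
    PolLaw.bcAlong g P (p ⊗ₜ[R] x) = p ⊗ₜ[Q] g x := by
  simp [PolLaw.bcAlong]

theorem bcAlong_smul (g : X →ₗ[R] Y) (p : P) (z : P ⊗[R] X) :
    PolLaw.bcAlong (Q := Q) g P (p • z) = p • PolLaw.bcAlong (Q := Q) g P z := by
  induction z using TensorProduct.induction_on with
  | zero => simp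
  | tmul q x => rw [TensorProduct.smul_tmul', bcAlong_tmul, bcAlong_tmul, TensorProduct.smul_tmul']
  | add a b ha hb => simp only [map_add, smul_add, ha, hb]

theorem bcAlong_natural (g : X →ₗ[R] Y) {P' : Type u} [CommRing P'] [Algebra R P'] [Algebra Q P']
    [IsScalarTower R Q P'] (φ : P →ₐ[Q] P') (z : P ⊗[R] X) :
    φ.toLinearMap.rTensor Y (PolLaw.bcAlong g P z) =
      PolLaw.bcAlong g P' ((φ.restrictScalars R).toLinearMap.rTensor X z) := by
  induction z using TensorProduct.induction_on with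
  | zero => simp
  | tmul q x => simp [bcAlong_tmul]
  | add a b ha hb => simp only [map_add, ha, hb]

theorem lTensor_bcAlong {Z : Type u} [AddCommGroup Z] [Module R Z] [Module Q Z] [IsScalarTower R Q Z]
    (g : X →ₗ[R] Y) (f : Y →ₗ[Q] Z) (z : P ⊗[R] X) :
    f.lTensor P (PolLaw.bcAlong g P z) = PolLaw.bcAlong (Q := Q) (f.restrictScalars R ∘ₗ g) P z := by
  induction z using TensorProduct.induction_on with
  | zero => simp
  | add x y hx hy => simp only [map_add, hx, hy]
  | tmul p x => rw [bcAlong_tmul, bcAlong_tmul]; simp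

theorem bcAlong_lTensor {W : Type u} [AddCommGroup W] [Module R W]
    (g : W →ₗ[R] X) (f : X →ₗ[R] Y) (z : P ⊗[R] W) :
    PolLaw.bcAlong (Q := Q) f P (g.lTensor P z) = PolLaw.bcAlong (Q := Q) (f ∘ₗ g) P z := by
  induction z using TensorProduct.induction_on with
  | zero => simp
  | add x y hx hy => simp only [map_add, hx, hy]
  | tmul p x => rw [LinearMap.lTensor_tmul, bcAlong_tmul, bcAlong_tmul]; simp

theorem bcAlong_bijective {g : X →ₗ[R] Y} (hg : IsBaseChange Q g) :
    Function.Bijective (PolLaw.bcAlong (Q := Q) g P) := by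
  have h : g.liftBaseChange Q = hg.equiv.toLinearMap := by
    apply LinearMap.ext; intro z
    induction z using TensorProduct.induction_on with
    | zero => simp
    | tmul q x => simp [hg.equiv_tmul]
    | add a b ha hb => simp only [map_add, ha, hb]
  rw [PolLaw.bcAlong, h, LinearMap.coe_comp]
  exact (LinearEquiv.lTensor P hg.equiv).bijective.comp
    (TensorProduct.AlgebraTensorModule.cancelBaseChange R Q P P X).symm.bijective

theorem polEquiv_bcAlong {κ : Type u} (g : X →ₗ[R] Y) (c : (κ →₀ ℕ) →₀ X) (α : κ →₀ ℕ) :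
    ZCLib.polEquiv Q κ Y
      (PolLaw.bcAlong g (MvPolynomial κ Q) (ZCLib.evalAt (fun j => MvPolynomial.X j) c)) α = g (c α) := by
  classical
  induction c using Finsupp.induction_linear with
  | zero => simp
  | add x y hx hy => simp only [map_add, Finsupp.add_apply, hx, hy]
  | single β x =>
    rw [ZCLib.evalAt_single, bcAlong_tmul, ZCLib.polEquiv_tmul, Finsupp.prod,
      MvPolynomial.prod_X_pow_eq_monomial, MvPolynomial.coeff_monomial, Finsupp.single_apply]
    split_ifs with h
    · simp
    · simp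

/-- Two linear maps out of `N` agree as soon as their compositions with a universal law agree after base change. -/
theorem hom_ext {M' : Type u} [AddCommGroup M'] [Module R M'] (R' : Type u) [CommRing R'] [Algebra R R']
    [Module R' M'] [IsScalarTower R R' M'] {ν : M' →ₚₗ[R] X} (hν : PolLaw.IsUnivNormic R' ν)
    {a b : X →ₗ[R] Y}
    (h : ∀ (P : Type u) [CommRing P] [Algebra R P] [Algebra Q P] [IsScalarTower R Q P] (m : P ⊗[R] M'),
      PolLaw.bcAlong (Q := Q) a P (ν.toFun' P m) = PolLaw.bcAlong (Q := Q) b P (ν.toFun' P m)) :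
    a = b := by
  have hlaw : PolLaw.postcomp a ν = PolLaw.postcomp b ν := by
    refine ZCLib.law_ext fun κ _ v => Finsupp.ext fun α => ?_
    rw [ZCLib.coeffs_postcomp, ZCLib.coeffs_postcomp]
    have h' := congrArg (fun w => ZCLib.polEquiv Q κ Y w α)
      (h (MvPolynomial κ Q) (∑ j, (MvPolynomial.X j : MvPolynomial κ Q) ⊗ₜ[R] v j))
    simp only [ZCLib.toFun'_sum, polEquiv_bcAlong] at h'
    exact h'
  have hN : PolLaw.IsNormic R' (PolLaw.postcomp b ν) := fun P _ _ x m => by
    show b.lTensor P (ν.toFun' P (PolLaw.actEnd M' P x m)) = _ • b.lTensor P (ν.toFun' P m)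
    rw [hν.1 P x m]
    generalize ν.toFun' P m = w
    induction w using TensorProduct.induction_on with
    | zero => simp
    | tmul p y => simp [TensorProduct.smul_tmul']
    | add y z hy hz => simp only [map_add, smul_add, hy, hz]
  exact (hν.2 Y _ hN).unique hlaw rfl

end bcAlong

section Pushout

variable {R R' Q Q' : Type u} [CommRing R] [CommRing R'] [Algebra R R']
    [CommRing Q] [Algebra R Q] [CommRing Q'] [Algebra R Q'] [Algebra Q Q'] [Algebra R' Q']
    [IsScalarTower R Q Q'] [IsScalarTower R R' Q'] [Algebra.IsPushout R R' Q Q']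
    {M' : Type u} [AddCommGroup M'] [Module R M'] [Module R' M'] [IsScalarTower R R' M']
    {M'' : Type u} [AddCommGroup M''] [Module R M''] [Module R' M''] [Module Q M''] [Module Q' M'']
    [IsScalarTower R R' M''] [IsScalarTower R Q M''] [IsScalarTower R' Q' M''] [IsScalarTower Q Q' M'']
    {P : Type u} [CommRing P] [Algebra R P] [Algebra Q P] [IsScalarTower R Q P]

variable (Q Q' P) in
/-- The base change isomorphism of the test algebras. -/
def bcEquiv : P ⊗[R] R' ≃ₐ[P] P ⊗[Q] Q' :=
  haveI : Algebra.IsPushout R Q R' Q' := Algebra.IsPushout.symm inferInstance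
  (Algebra.TensorProduct.cancelBaseChange R Q P P R').symm.trans
    (Algebra.TensorProduct.congr AlgEquiv.refl (Algebra.IsPushout.equiv R Q R' Q'))

theorem bcEquiv_tmul (p : P) (x : R') :
    bcEquiv Q Q' P (p ⊗ₜ[R] x) = p ⊗ₜ[Q] algebraMap R' Q' x := by
  simp [bcEquiv, Algebra.IsPushout.equiv_tmul]

theorem norm_bcEquiv (z : P ⊗[R] R') : Algebra.norm P (bcEquiv Q Q' P z) = Algebra.norm P z :=
  Algebra.norm_eq_of_algEquiv _ _

theorem bcAlong_act (f : M' →ₗ[R'] M'') (x : P ⊗[R] R') (m : P ⊗[R] M') :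
    PolLaw.bcAlong (Q := Q) (f.restrictScalars R) P (PolLaw.actEnd M' P x m) =
      PolLaw.actEnd M'' P (bcEquiv Q Q' P x) (PolLaw.bcAlong (Q := Q) (f.restrictScalars R) P m) := by
  induction x using TensorProduct.induction_on with
  | zero => simp
  | add a b ha hb => simp only [map_add, LinearMap.add_apply, ha, hb]
  | tmul p b =>
    induction m using TensorProduct.induction_on with
    | zero => simp
    | add a b ha hb => simp only [map_add, ha, hb]
    | tmul q y =>
      rw [bcEquiv_tmul, PolLaw.actEnd_tmul_tmul, bcAlong_tmul, bcAlong_tmul, PolLaw.actEnd_tmul_tmul]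
      simp [algebraMap_smul]

theorem isBaseChange_restrict (f : M' →ₗ[R'] M'') (hf : IsBaseChange Q' f) :
    IsBaseChange Q (f.restrictScalars R) := by
  haveI : Algebra.IsPushout R Q R' Q' := Algebra.IsPushout.symm inferInstance
  refine IsBaseChange.of_equiv
    ((Algebra.IsPushout.cancelBaseChange R Q R' Q' M').symm ≪≫ₗ hf.equiv.restrictScalars Q) fun m => ?_
  simp [hf.equiv_tmul]

end Pushout

section Down

variable {R Q : Type u} [CommRing R] [CommRing Q] [Algebra R Q]

/-- `(q ⊗ s) ⊗ n ↦ s ⊗ q n`. -/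
def collapse (S : Type u) [CommRing S] [Algebra R S] (N'' : Type u) [AddCommGroup N''] [Module R N'']
    [Module Q N''] [IsScalarTower R Q N''] : (Q ⊗[R] S) ⊗[Q] N'' →ₗ[R] S ⊗[R] N'' :=
  (TensorProduct.comm R N'' S).toLinearMap ∘ₗ
    ((TensorProduct.AlgebraTensorModule.cancelBaseChange R Q Q N'' S).toLinearMap.restrictScalars R) ∘ₗ
    ((TensorProduct.comm Q (Q ⊗[R] S) N'').toLinearMap.restrictScalars R)

variable {N'' : Type u} [AddCommGroup N''] [Module R N''] [Module Q N''] [IsScalarTower R Q N'']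

@[simp] theorem collapse_tmul (S : Type u) [CommRing S] [Algebra R S] (q : Q) (s : S) (n : N'') :
    collapse S N'' ((q ⊗ₜ[R] s) ⊗ₜ[Q] n) = s ⊗ₜ[R] (q • n) := by
  simp [collapse]

theorem collapse_smul (S : Type u) [CommRing S] [Algebra R S] (s : S) (w : (Q ⊗[R] S) ⊗[Q] N'') :
    collapse S N'' ((Algebra.TensorProduct.includeRight (R := R) (A := Q) s) • w) = s • collapse S N'' w := by
  induction w using TensorProduct.induction_on with
  | zero => simp
  | add a b ha hb => simp only [map_add, smul_add, ha, hb]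
  | tmul t n =>
    induction t using TensorProduct.induction_on with
    | zero => simp
    | add a b ha hb => simp only [TensorProduct.add_tmul, map_add, smul_add, ha, hb]
    | tmul q r => simp [TensorProduct.smul_tmul', Algebra.TensorProduct.tmul_mul_tmul]

variable {M' M'' : Type u} [AddCommGroup M'] [Module R M'] [AddCommGroup M''] [Module R M''] [Module Q M'']
  [IsScalarTower R Q M'']

/-- The value of the descended law over a test ring. -/
def downFun (f : M' →ₗ[R] M'') (ν'' : M'' →ₚₗ[Q] N'') (S : Type u) [CommRing S] [Algebra R S]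
    (m : S ⊗[R] M') : S ⊗[R] N'' :=
  collapse S N'' (ν''.toFun' (Q ⊗[R] S) (PolLaw.bcAlong (Q := Q) f (Q ⊗[R] S)
    ((Algebra.TensorProduct.includeRight : S →ₐ[R] Q ⊗[R] S).toLinearMap.rTensor M' m)))

theorem downFun_natural (f : M' →ₗ[R] M'') (ν'' : M'' →ₚₗ[Q] N'') {S S' : Type u} [CommRing S]
    [Algebra R S] [CommRing S'] [Algebra R S'] (φ : S →ₐ[R] S') (m : S ⊗[R] M') :
    φ.toLinearMap.rTensor N'' (downFun f ν'' S m) = downFun f ν'' S' (φ.toLinearMap.rTensor M' m) := by
  let ψ : Q ⊗[R] S →ₐ[Q] Q ⊗[R] S' := Algebra.TensorProduct.map (AlgHom.id Q Q) φ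
  have hc : ∀ w : (Q ⊗[R] S) ⊗[Q] N'',
      φ.toLinearMap.rTensor N'' (collapse S N'' w) = collapse S' N'' (ψ.toLinearMap.rTensor N'' w) := by
    intro w
    induction w using TensorProduct.induction_on with
    | zero => simp
    | add a b ha hb => simp only [map_add, ha, hb]
    | tmul t n =>
      induction t using TensorProduct.induction_on with
      | zero => simp
      | add a b ha hb => simp only [TensorProduct.add_tmul, map_add, ha, hb]
      | tmul q r => simp [ψ]
  rw [downFun, downFun, hc, show ∀ z, ψ.toLinearMap.rTensor N'' (ν''.toFun' _ z) =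
    ν''.toFun' _ (ψ.toLinearMap.rTensor M'' z) from fun z => congrFun (ν''.isCompat' ψ) z, bcAlong_natural]
  congr 3
  induction m using TensorProduct.induction_on with
  | zero => simp
  | tmul s y => simp [ψ]
  | add a b ha hb => simp only [map_add, ha, hb]

/-- A law over `Q` seen as a law over `R`. -/
def down (f : M' →ₗ[R] M'') (ν'' : M'' →ₚₗ[Q] N'') : M' →ₚₗ[R] N'' where
  toFun' S _ _ :=
    letI : CommRing S := (algebraMap R S).commSemiringToCommRing
    downFun f ν'' S
  isCompat' {S} _ _ {S'} _ _ φ := by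
    letI : CommRing S := (algebraMap R S).commSemiringToCommRing
    letI : CommRing S' := (algebraMap R S').commSemiringToCommRing
    funext m
    exact downFun_natural f ν'' φ m

theorem down_apply (f : M' →ₗ[R] M'') (ν'' : M'' →ₚₗ[Q] N'') (S : Type u) [CommRing S] [Algebra R S]
    (m : S ⊗[R] M') : (down f ν'').toFun' S m = downFun f ν'' S m := by
  show downFun f ν'' S m = downFun f ν'' S m
  rfl

theorem bcAlong_down (f : M' →ₗ[R] M'') (ν'' : M'' →ₚₗ[Q] N'') (P : Type u) [CommRing P] [Algebra R P]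
    [Algebra Q P] [IsScalarTower R Q P] (m : P ⊗[R] M') :
    PolLaw.bcAlong (Q := Q) (LinearMap.id : N'' →ₗ[R] N'') P ((down f ν'').toFun' P m) =
      ν''.toFun' P (PolLaw.bcAlong (Q := Q) f P m) := by
  let θ : Q ⊗[R] P →ₐ[Q] P :=
    Algebra.TensorProduct.lift (Algebra.ofId Q P) (AlgHom.id R P) fun _ _ => Commute.all _ _
  have hc : ∀ w : (Q ⊗[R] P) ⊗[Q] N'',
      PolLaw.bcAlong (Q := Q) (LinearMap.id : N'' →ₗ[R] N'') P (collapse P N'' w) =
        θ.toLinearMap.rTensor N'' w := by
    intro w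
    induction w using TensorProduct.induction_on with
    | zero => simp
    | add a b ha hb => simp only [map_add, ha, hb]
    | tmul t n =>
      induction t using TensorProduct.induction_on with
      | zero => simp
      | add a b ha hb => simp only [TensorProduct.add_tmul, map_add, ha, hb]
      | tmul q r =>
        rw [collapse_tmul, bcAlong_tmul, LinearMap.rTensor_tmul]
        simp [θ, ← Algebra.smul_def, TensorProduct.smul_tmul]
  rw [down_apply, downFun, hc, show ∀ z, θ.toLinearMap.rTensor N'' (ν''.toFun' _ z) =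
    ν''.toFun' _ (θ.toLinearMap.rTensor M'' z) from fun z => congrFun (ν''.isCompat' θ) z, bcAlong_natural]
  congr 2
  induction m using TensorProduct.induction_on with
  | zero => simp
  | tmul s y => simp [θ]
  | add a b ha hb => simp only [map_add, ha, hb]

end Down

section DownNormic

variable {R R' Q Q' : Type u} [CommRing R] [CommRing R'] [Algebra R R']
    [CommRing Q] [Algebra R Q] [CommRing Q'] [Algebra R Q'] [Algebra Q Q'] [Algebra R' Q']
    [IsScalarTower R Q Q'] [IsScalarTower R R' Q'] [Algebra.IsPushout R R' Q Q']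
    [Module.Free R R'] [Module.Finite R R']
    {M' : Type u} [AddCommGroup M'] [Module R M'] [Module R' M'] [IsScalarTower R R' M']
    {M'' : Type u} [AddCommGroup M''] [Module R M''] [Module R' M''] [Module Q M''] [Module Q' M'']
    [IsScalarTower R R' M''] [IsScalarTower R Q M''] [IsScalarTower R' Q' M''] [IsScalarTower Q Q' M'']
    {N'' : Type u} [AddCommGroup N''] [Module R N''] [Module Q N''] [IsScalarTower R Q N'']

theorem down_isNormic (f : M' →ₗ[R'] M'') {ν'' : M'' →ₚₗ[Q] N''} (hν'' : PolLaw.IsNormic Q' ν'') :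
    PolLaw.IsNormic R' (down (f.restrictScalars R) ν'') := by
  intro S _ _ x m
  let ι : S →ₐ[R] Q ⊗[R] S := Algebra.TensorProduct.includeRight
  rw [down_apply, down_apply, downFun, downFun, PolLaw.rTensor_actEnd, bcAlong_act (Q' := Q'), hν'',
    norm_bcEquiv, ← PolLaw.detAct_self, PolLaw.detAct_map, PolLaw.detAct_self, collapse_smul]

end DownNormic

section Up

variable {R Q : Type u} [CommRing R] [CommRing Q] [Algebra R Q]
  {M' : Type u} [AddCommGroup M'] [Module R M'] {N : Type u} [AddCommGroup N] [Module R N]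
  {M'' : Type u} [AddCommGroup M''] [Module R M''] [Module Q M''] [IsScalarTower R Q M'']
  {E : Type u} [AddCommGroup E] [Module R E] [Module Q E] [IsScalarTower R Q E]

/-- The value of the extended law over a test ring. -/
def upFun (f : M' →ₗ[R] M'') (hf : IsBaseChange Q f) (ν : M' →ₚₗ[R] N) (g : N →ₗ[R] E) (P : Type u)
    [CommRing P] [Algebra R P] [Algebra Q P] [IsScalarTower R Q P] (z : P ⊗[Q] M'') : P ⊗[Q] E :=
  PolLaw.bcAlong (Q := Q) g P (ν.toFun' P ((Equiv.ofBijective _ (bcAlong_bijective (P := P) hf)).symm z))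

theorem upFun_bcAlong (f : M' →ₗ[R] M'') (hf : IsBaseChange Q f) (ν : M' →ₚₗ[R] N) (g : N →ₗ[R] E)
    (P : Type u) [CommRing P] [Algebra R P] [Algebra Q P] [IsScalarTower R Q P] (m : P ⊗[R] M') :
    upFun f hf ν g P (PolLaw.bcAlong (Q := Q) f P m) = PolLaw.bcAlong (Q := Q) g P (ν.toFun' P m) := by
  rw [upFun, ← Equiv.ofBijective_apply (PolLaw.bcAlong (Q := Q) f P) (bcAlong_bijective (P := P) hf),
    Equiv.symm_apply_apply]

theorem upFun_natural (f : M' →ₗ[R] M'') (hf : IsBaseChange Q f) (ν : M' →ₚₗ[R] N) (g : N →ₗ[R] E)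
    {P P' : Type u} [CommRing P] [Algebra R P] [Algebra Q P] [IsScalarTower R Q P]
    [CommRing P'] [Algebra R P'] [Algebra Q P'] [IsScalarTower R Q P'] (φ : P →ₐ[Q] P') (z : P ⊗[Q] M'') :
    φ.toLinearMap.rTensor E (upFun f hf ν g P z) = upFun f hf ν g P' (φ.toLinearMap.rTensor M'' z) := by
  obtain ⟨m, rfl⟩ := (bcAlong_bijective (P := P) hf).2 z
  rw [bcAlong_natural, upFun_bcAlong, upFun_bcAlong, bcAlong_natural]
  congr 1
  exact congrFun (ν.isCompat' (φ.restrictScalars R)) m

/-- A law over `R` extended to `Q`. -/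
def up (f : M' →ₗ[R] M'') (hf : IsBaseChange Q f) (ν : M' →ₚₗ[R] N) (g : N →ₗ[R] E) : M'' →ₚₗ[Q] E where
  toFun' S _ _ :=
    letI : CommRing S := (algebraMap Q S).commSemiringToCommRing
    letI : Algebra R S := Algebra.compHom S (algebraMap R Q)
    haveI : IsScalarTower R Q S := IsScalarTower.of_algebraMap_eq fun _ => rfl
    upFun f hf ν g S
  isCompat' {S} _ _ {S'} _ _ φ := by
    letI : CommRing S := (algebraMap Q S).commSemiringToCommRing
    letI : Algebra R S := Algebra.compHom S (algebraMap R Q)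
    haveI : IsScalarTower R Q S := IsScalarTower.of_algebraMap_eq fun _ => rfl
    letI : CommRing S' := (algebraMap Q S').commSemiringToCommRing
    letI : Algebra R S' := Algebra.compHom S' (algebraMap R Q)
    haveI : IsScalarTower R Q S' := IsScalarTower.of_algebraMap_eq fun _ => rfl
    funext z
    exact upFun_natural f hf ν g φ z

theorem up_bcAlong (f : M' →ₗ[R] M'') (hf : IsBaseChange Q f) (ν : M' →ₚₗ[R] N) (g : N →ₗ[R] E)
    (P : Type u) [CommRing P] [i : Algebra R P] [Algebra Q P] [IsScalarTower R Q P] (m : P ⊗[R] M') :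
    (up f hf ν g).toFun' P (PolLaw.bcAlong (Q := Q) f P m) = PolLaw.bcAlong (Q := Q) g P (ν.toFun' P m) := by
  have h : i = Algebra.compHom P (algebraMap R Q) :=
    Algebra.algebra_ext _ _ fun r => IsScalarTower.algebraMap_apply R Q P r
  subst h
  letI : Algebra R P := Algebra.compHom P (algebraMap R Q)
  exact upFun_bcAlong f hf ν g P m

end Up

section Main

variable {R R' Q Q' : Type u} [CommRing R] [CommRing R'] [Algebra R R']
    [CommRing Q] [Algebra R Q] [CommRing Q'] [Algebra R Q'] [Algebra Q Q'] [Algebra R' Q']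
    [IsScalarTower R Q Q'] [IsScalarTower R R' Q'] [Algebra.IsPushout R R' Q Q']
    {M' : Type u} [AddCommGroup M'] [Module R M'] [Module R' M'] [IsScalarTower R R' M']
    {M'' : Type u} [AddCommGroup M''] [Module R M''] [Module R' M''] [Module Q M''] [Module Q' M'']
    [IsScalarTower R R' M''] [IsScalarTower R Q M''] [IsScalarTower R' Q' M''] [IsScalarTower Q Q' M'']
    {N : Type u} [AddCommGroup N] [Module R N]
    {E : Type u} [AddCommGroup E] [Module R E] [Module Q E] [IsScalarTower R Q E]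

theorem up_isNormic (f : M' →ₗ[R'] M'') (hf : IsBaseChange Q (f.restrictScalars R)) {ν : M' →ₚₗ[R] N}
    (hν : PolLaw.IsNormic R' ν) (g : N →ₗ[R] E) :
    PolLaw.IsNormic Q' (up (f.restrictScalars R) hf ν g) := by
  intro P _ _ y z
  letI : Algebra R P := Algebra.compHom P (algebraMap R Q)
  haveI : IsScalarTower R Q P := IsScalarTower.of_algebraMap_eq fun _ => rfl
  obtain ⟨x, rfl⟩ := (bcEquiv (R := R) (R' := R') Q Q' P).surjective y
  obtain ⟨m, rfl⟩ := (bcAlong_bijective (P := P) hf).2 z
  rw [← bcAlong_act, up_bcAlong, up_bcAlong, hν, bcAlong_smul, norm_bcEquiv]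

variable [Module.Free R R'] [Module.Finite R R']
    {N'' : Type u} [AddCommGroup N''] [Module R N''] [Module Q N''] [IsScalarTower R Q N'']

omit [Module.Free R R'] [Module.Finite R R'] in
theorem exists_lift (f : M' →ₗ[R'] M'') (hfQ : IsBaseChange Q (f.restrictScalars R)) (ν : M' →ₚₗ[R] N)
    (hν : PolLaw.IsUnivNormic R' ν) (ν'' : M'' →ₚₗ[Q] N'') (hν'' : PolLaw.IsUnivNormic Q' ν'')
    (u : N →ₗ[R] N'')
    (hcompat : ∀ (P : Type u) [CommRing P] [Algebra R P] [Algebra Q P] [IsScalarTower R Q P] (m : P ⊗[R] M'),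
      ν''.toFun' P (PolLaw.bcAlong (Q := Q) (f.restrictScalars R) P m) =
        PolLaw.bcAlong (Q := Q) u P (ν.toFun' P m)) (g : N →ₗ[R] E) :
    ∃! h : N'' →ₗ[Q] E, h.restrictScalars R ∘ₗ u = g := by
  obtain ⟨h, hh, huniq⟩ := hν''.2 E _ (up_isNormic f hfQ hν.1 g)
  have key : ∀ (h' : N'' →ₗ[Q] E) (P : Type u) [CommRing P] [Algebra R P] [Algebra Q P]
      [IsScalarTower R Q P] (m : P ⊗[R] M'),
      (PolLaw.postcomp h' ν'').toFun' P (PolLaw.bcAlong (Q := Q) (f.restrictScalars R) P m) =
        PolLaw.bcAlong (Q := Q) (h'.restrictScalars R ∘ₗ u) P (ν.toFun' P m) := by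
    intro h' P _ _ _ _ m
    rw [← lTensor_bcAlong, ← hcompat]
    rfl
  refine ⟨h, ?_, fun h' hh' => huniq h' ?_⟩
  · refine hom_ext (Q := Q) R' hν (fun P _ _ _ _ m => ?_)
    rw [← key h P m, hh, up_bcAlong]
  · refine ZCLib.law_ext (fun κ _ v => ?_)
    obtain ⟨m, hm⟩ := (bcAlong_bijective (P := MvPolynomial κ Q) hfQ).2 (ZCLib.gen v)
    have hh'' : h'.restrictScalars R ∘ₗ u = g := hh'
    unfold ZCLib.coeffs
    rw [← hm, up_bcAlong, key h', hh'']

theorem exists_isBaseChange (f : M' →ₗ[R'] M'') (hf : IsBaseChange Q' f) (ν : M' →ₚₗ[R] N)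
    (hν : PolLaw.IsUnivNormic R' ν) (ν'' : M'' →ₚₗ[Q] N'') (hν'' : PolLaw.IsUnivNormic Q' ν'') :
    ∃ u : N →ₗ[R] N'',
      (∀ (P : Type u) [CommRing P] [Algebra R P] [Algebra Q P] [IsScalarTower R Q P] (m : P ⊗[R] M'),
          ν''.toFun' P (PolLaw.bcAlong (Q := Q) (f.restrictScalars R) P m) =
            PolLaw.bcAlong (Q := Q) u P (ν.toFun' P m)) ∧
      IsBaseChange Q u := by
  obtain ⟨u, hu, -⟩ := hν.2 N'' _ (down_isNormic (Q' := Q') f hν''.1)
  have hcompat : ∀ (P : Type u) [CommRing P] [Algebra R P] [Algebra Q P] [IsScalarTower R Q P] (m : P ⊗[R] M'),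
      ν''.toFun' P (PolLaw.bcAlong (Q := Q) (f.restrictScalars R) P m) =
        PolLaw.bcAlong (Q := Q) u P (ν.toFun' P m) := by
    intro P _ _ _ _ m
    rw [← bcAlong_down, ← hu]
    show PolLaw.bcAlong _ P (u.lTensor P (ν.toFun' P m)) = _
    rw [bcAlong_lTensor, LinearMap.id_comp]
  refine ⟨u, hcompat, IsBaseChange.of_lift_unique _ ?_⟩
  intro E iE _ _ _ g
  letI iE' : AddCommGroup E := Module.addCommMonoidToAddCommGroup R
  exact exists_lift f (isBaseChange_restrict (R := R) (Q := Q) f hf) ν hν ν'' hν'' u hcompat g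

end Main

end NormicBCLib
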